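import Mathlib
import Groth.Prelude.Def_CoactBr
import Groth.Prelude.Def_AlgGrp
import Groth.Agent.Lib.Helper68.AffQuot

/-!
# Affine group schemes over `Spec k` and Hopf algebras: a working dictionary (helper84)

Plumbing between the scheme-side (`Over (Spec k)`, `GrpObj`) and the Hopf-algebra side, built on
Mathlib's `hopfSpec` and the prelude's `CoactBr.sp`, `CoactBr.pt`.

* `exists_hopf_iso`: every affine group scheme `G` over `Spec k` is isomorphic, as a group object,
  to `sp k A` for a commutative Hopf algebra `A`.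
* `exists_bialgHom_of_isMonHom`: a homomorphism `sp k C ⟶ sp k A` is `pt φ` for a bialgebra map `φ`.
* `isMonHom_pt`: `pt φ` is a homomorphism for a bialgebra map `φ`.
* `pt_conv_mul`, `pt_conv3`: products of points and convolution.
* `isPushout_of_ker`, `isPullback_sp`: the kernel square.
-/

set_option autoImplicit false
universe u
open CategoryTheory MonoidalCategory CartesianMonoidalCategory MonObj GrpObj AlgebraicGeometry Opposite
open CoactBr Limits

namespace Groth.Agent.Lib.Helper84.AffGrpSch

variable {k : Type u} [CommRing k]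

theorem exists_hopf_iso (G : Over (Spec (CommRingCat.of k))) [GrpObj G] [IsAffine G.left] :
    ∃ (A : Type u) (_ : CommRing A) (_ : HopfAlgebra k A) (e : sp k A ≅ G), IsMonHom e.hom := by
  have h : (hopfSpec (CommRingCat.of k)).essImage (Grp.mk G) := essImage_hopfSpec.2 ‹_›
  let H := h.witness
  let e := h.getIso
  refine ⟨H.unop, inferInstance, inferInstance, (Grp.forget _).mapIso e, ?_⟩
  exact e.hom.hom.isMonHom_hom

theorem exists_bialgHom_of_isMonHom {A C : Type u} [CommRing A] [HopfAlgebra k A] [CommRing C]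
    [HopfAlgebra k C] (f : sp k C ⟶ sp k A) [IsMonHom f] :
    ∃ φ : A →ₐc[k] C, pt (φ : A →ₐ[k] C) = f := by
  let X₁ := (hopfSpec (CommRingCat.of k)).obj (op (CommHopfAlgCat.of k C))
  let X₂ := (hopfSpec (CommRingCat.of k)).obj (op (CommHopfAlgCat.of k A))
  have hf : @IsMonHom _ _ _ X₁.X X₂.X X₁.grp.toMonObj X₂.grp.toMonObj f := ‹IsMonHom f›
  let F : X₁ ⟶ X₂ := @Grp.homMk _ _ _ X₁ X₂ f hf
  let ψ := hopfSpec.fullyFaithful.preimage F
  refine ⟨ψ.unop.hom, ?_⟩
  have h := hopfSpec.fullyFaithful.map_preimage F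
  have h2 := congrArg (fun m => m.hom.hom) h
  exact h2

theorem isMonHom_pt {A C : Type u} [CommRing A] [HopfAlgebra k A] [CommRing C]
    [HopfAlgebra k C] (φ : A →ₐc[k] C) : IsMonHom (pt (φ : A →ₐ[k] C)) := by
  let F := (hopfSpec (CommRingCat.of k)).map (CommHopfAlgCat.ofHom φ).op
  exact F.hom.isMonHom_hom

section Conv

variable {A K : Type u} [CommRing A] [CommRing K] [Algebra k K]

theorem pt_conv_mul [Bialgebra k A] (x y : WithConv (A →ₐ[k] K)) :
    pt (x * y).ofConv = pt x.ofConv * pt y.ofConv :=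
  map_mul Spec.mapMulEquiv x y

end Conv

section Pullback

theorem isPushout_of_ker {A B C : Type u} [CommRing A] [CommRing B] [CommRing C]
    [Algebra k A] [Algebra k B] [Algebra k C]
    (j : B →ₐ[k] A) (φ : A →ₐ[k] C) (ε : B →ₐ[k] k) (hφ : Function.Surjective φ)
    (hker : RingHom.ker (φ : A →+* C) = Ideal.span (j '' {b | ε b = 0})) :
    IsPushout (CommRingCat.ofHom j.toRingHom) (CommRingCat.ofHom ε.toRingHom)
      (CommRingCat.ofHom φ.toRingHom) (CommRingCat.ofHom (algebraMap k C)) := by
  have hcomm : ∀ b : B, φ (j b) = algebraMap k C (ε b) := by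
    intro b
    have h1 : ε (b - algebraMap k B (ε b)) = 0 := by
      rw [map_sub, AlgHom.commutes]
      simp
    have h2 : j (b - algebraMap k B (ε b)) ∈ RingHom.ker (φ : A →+* C) := by
      rw [hker]
      exact Ideal.subset_span ⟨_, h1, rfl⟩
    rw [RingHom.mem_ker] at h2
    have h3 : φ (j (b - algebraMap k B (ε b))) = 0 := h2
    rw [map_sub, map_sub, AlgHom.commutes, AlgHom.commutes, sub_eq_zero] at h3
    exact h3
  refine ⟨⟨?_⟩, ⟨PushoutCocone.IsColimit.mk _ (fun s => ?_) (fun s => ?_) (fun s => ?_)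
    (fun s m h1 h2 => ?_)⟩⟩
  · ext b
    exact hcomm b
  · -- the lift
    refine CommRingCat.ofHom (RingHom.liftOfSurjective (φ : A →+* C) hφ ⟨s.inl.hom, ?_⟩)
    rw [hker, Ideal.span_le]
    rintro _ ⟨b, hb, rfl⟩
    rw [SetLike.mem_coe, RingHom.mem_ker]
    have h := congrArg (fun f => f.hom b) s.condition
    simp only [CommRingCat.hom_comp, CommRingCat.hom_ofHom, RingHom.comp_apply] at h
    have hb' : ε b = 0 := hb
    have : (ε.toRingHom) b = 0 := hb'
    rw [this, map_zero] at h
    exact h
  · ext a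
    simp only [CommRingCat.hom_comp, CommRingCat.hom_ofHom, RingHom.comp_apply]
    exact RingHom.liftOfRightInverse_comp_apply _ _ _ _ a
  · ext c
    simp only [CommRingCat.hom_comp, CommRingCat.hom_ofHom, RingHom.comp_apply]
    have h0 : algebraMap k C c = (φ : A →+* C) (algebraMap k A c) := (AlgHom.commutes φ c).symm
    rw [h0]
    erw [RingHom.liftOfRightInverse_comp_apply]
    have h := congrArg (fun f => f.hom (algebraMap k B c)) s.condition
    simp only [CommRingCat.hom_comp, CommRingCat.hom_ofHom, RingHom.comp_apply] at h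
    have h5 : j.toRingHom (algebraMap k B c) = algebraMap k A c := AlgHom.commutes j c
    have h6 : ε.toRingHom (algebraMap k B c) = c := by simp
    rw [h5, h6] at h
    exact h
  · ext c
    obtain ⟨a, rfl⟩ := hφ c
    have h := congrArg (fun f => f.hom a) h1
    simp only [CommRingCat.hom_comp, CommRingCat.hom_ofHom, RingHom.comp_apply] at h
    simp only [CommRingCat.hom_ofHom]
    erw [RingHom.liftOfRightInverse_comp_apply]
    exact h

theorem isPullback_sp {A B C : Type u} [CommRing A] [CommRing B] [CommRing C]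
    [Algebra k A] [Algebra k B] [Algebra k C]
    (j : B →ₐ[k] A) (φ : A →ₐ[k] C) (ε : B →ₐ[k] k) (hφ : Function.Surjective φ)
    (hker : RingHom.ker (φ : A →+* C) = Ideal.span (j '' {b | ε b = 0}))
    (e : 𝟙_ (Over (Spec (CommRingCat.of k))) ⟶ sp k B)
    (he : e.left = Spec.map (CommRingCat.ofHom ε.toRingHom)) :
    IsPullback (pt φ) (toUnit (sp k C)) (pt j) e := by
  have h := isPullback_SpecMap_of_isPushout _ _ _ _ (isPushout_of_ker j φ ε hφ hker)
  have hcomm : pt φ ≫ pt j = toUnit (sp k C) ≫ e := by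
    ext1
    rw [Over.comp_left, Over.comp_left, he]
    exact h.w
  refine IsPullback.of_map (Over.forget _) hcomm ?_
  rw [Over.forget_map, Over.forget_map, Over.forget_map, Over.forget_map, he]
  exact h

end Pullback

end Groth.Agent.Lib.Helper84.AffGrpSch
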